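import Cfsg.Agent.H707.Odd.Deg
import Cfsg.Agent.SmallSimple.S1000.OneBlock

/-!
# Degrees modulo a prime with self-centralizing Sylow subgroup of prime order

`degree_mod` : `|P| = p`, `|C(P)| = p`, `|N(P) : C(P)| = e`; every character degree is divisible by `p` or congruent
to `±1` or `±e` modulo `p`.
-/

set_option autoImplicit false

namespace Cfsg.Agent.H707.Odd

open Cfsg Cfsg.Agent.Characters.Core Cfsg.Agent.Characters Cfsg.Agent.H707.OddLift
open scoped ComplexConjugate

universe u

variable {G : Type u} [Group G] [Finite G]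

/-- multiplicities are natural numbers -/
theorem exists_nat_inner [Fintype G] {π : G → ℂ} (hπ : IsCharacter G π) (χ : IrrCharacter G) :
    ∃ k : ℕ, classInner π (χ : G → ℂ) = k := by
  have := finite_irr (G := G)
  have := Fintype.ofFinite (IrrCharacter G)
  obtain ⟨m, hm⟩ := isCharacter_iff.1 hπ
  refine ⟨m χ, ?_⟩
  rw [hm, classInner_sum_nsmul_irr]

/-- A character vanishing on the nontrivial elements of a subgroup. -/
theorem card_dvd_of_vanish (P : Subgroup G) {χ : G → ℂ} (hχ : IsCharacter G χ) {d : ℕ} (hd : χ 1 = d)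
    (h0 : ∀ x ∈ P, x ≠ 1 → χ x = 0) : Nat.card P ∣ d := by
  classical
  have := Fintype.ofFinite G
  have := Fintype.ofFinite P
  obtain ⟨k, hk⟩ := exists_nat_inner (isCharacter_comp P.subtype hχ) ⟨1, isIrr_one (G := P)⟩
  rw [classInner_def, Finset.sum_eq_single 1] at hk
  · refine ⟨k, ?_⟩
    have h1 : (χ ∘ P.subtype) 1 = d := by
      show χ (P.subtype 1) = d
      rw [map_one, hd]
    have h2 : (Nat.card P : ℂ) ≠ 0 := Nat.cast_ne_zero.2 Nat.card_pos.ne'
    rw [h1] at hk
    have h3 : (d : ℂ) = Nat.card P * k := by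
      rw [← hk]
      simp only [Pi.one_apply, map_one, mul_one]
      field_simp
    exact_mod_cast h3
  · intro x _ hx
    have h1 : (χ ∘ P.subtype) x = 0 := h0 x x.2 fun h => hx (Subtype.ext h)
    rw [h1, zero_mul]
  · intro h
    exact absurd (Finset.mem_univ _) h

theorem degree_mod {p : ℕ} [hp : Fact p.Prime] (hp2 : p ≠ 2) (P : Sylow p G) (hP : Nat.card P = p)
    (hC : Nat.card (Subgroup.centralizer ((P : Subgroup G) : Set G)) = p) {e : ℕ}
    (he : (Subgroup.centralizer ((P : Subgroup G) : Set G)).relIndex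
      (Subgroup.normalizer ((P : Subgroup G) : Set G)) = e) (χ : IrrCharacter G) {d : ℕ}
    (hd : (χ : G → ℂ) 1 = d) :
    p ∣ d ∨ (d : ℤ) ≡ 1 [ZMOD p] ∨ (d : ℤ) ≡ -1 [ZMOD p] ∨ (d : ℤ) ≡ (e : ℤ) [ZMOD p] ∨ (d : ℤ) ≡ -(e : ℤ) [ZMOD p] := by
  classical
  obtain ⟨M, hM⟩ := Blocks.ExistsModular.exists_isPModular hp.out
  by_cases hχ : χ ∈ principalBlock M G
  · right
    have h := (S0960.result p M hM hp2 P hP e he).2 χ hχ
    rw [Blocks.Basic.charDegree_of_eq hd] at h
    exact h
  · left
    have hcyc : ∀ x ∈ (P : Subgroup G), x ≠ 1 → Subgroup.zpowers x = (P : Subgroup G) := by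
      intro x hx hx1
      apply Subgroup.eq_of_le_of_card_ge (by rw [Subgroup.zpowers_le]; exact hx)
      have h1 : Nat.card (Subgroup.zpowers x) ∣ Nat.card P := Subgroup.card_dvd_of_le (by
        rw [Subgroup.zpowers_le]; exact hx)
      rw [hP] at h1
      have h2 : Nat.card (Subgroup.zpowers x) ≠ 1 := by
        rw [Nat.card_zpowers]
        exact fun h => hx1 (orderOf_eq_one_iff.1 h)
      have h3 := ((Nat.dvd_prime hp.out).1 h1).resolve_left h2
      rw [h3]
      exact hP.le
    have hvan : ∀ x ∈ (P : Subgroup G), x ≠ 1 → (χ : G → ℂ) x = 0 := by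
      intro x hx hx1
      have hz := hcyc x hx hx1
      have hord : orderOf x = p := by
        rw [← Nat.card_zpowers, hz]
        exact hP
      have hcen : Subgroup.centralizer ({x} : Set G) = Subgroup.centralizer ((P : Subgroup G) : Set G) := by
        rw [← hz]
        ext y
        rw [Subgroup.mem_centralizer_singleton_iff, Subgroup.mem_centralizer_iff]
        constructor
        · rintro h _ ⟨n, rfl⟩
          have h' : Commute y x := h
          exact ((h'.zpow_right n).eq).symm
        · intro h
          exact (h x (Subgroup.mem_zpowers x)).symm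
      have hcard : Nat.card (Subgroup.centralizer ({x} : Set G)) = p := by rw [hcen, hC]
      have hcy : IsCyclic (Subgroup.centralizer ({x} : Set G)) := isCyclic_of_prime_card (p := p) hcard
      have hs : Group.IsSolvable (Subgroup.centralizer ({x} : Set G)) :=
        Group.isSolvable_of_comm fun a b => (IsCyclic.isMulCommutative (α := Subgroup.centralizer ({x} : Set G))).is_comm.comm a b
      have hcore : pPrimeCore p (Subgroup.centralizer ({x} : Set G)) = ⊥ := by
        rw [eq_bot_iff]
        apply sSup_le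
        rintro N ⟨-, hN⟩
        have h1 : Nat.card N ∣ p := by rw [← hcard]; exact Subgroup.card_subgroup_dvd_card N
        have h2 : Nat.card N = 1 := by
          rcases (Nat.dvd_prime hp.out).1 h1 with h | h
          · exact h
          · rw [h, Nat.coprime_self] at hN
            exact absurd hN hp.out.ne_one
        rw [Subgroup.card_eq_one.1 h2]
      have h1 := SmallSimple.S1000.OneBlock.eq_zero_of_solvable hM (u := x) ⟨1, by rw [hord, pow_one]⟩ hs hcore hχ
        (y := 1) (Subgroup.one_mem _) (by rw [orderOf_one]; exact hp.out.one_lt.not_ge ∘ Nat.le_of_dvd one_pos)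
      rwa [mul_one] at h1
    have h1 := card_dvd_of_vanish (P : Subgroup G) (isIrr_isCharacter χ.2) hd hvan
    rwa [hP] at h1

end Cfsg.Agent.H707.Odd
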