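import Cfsg.Agent.H437.Cases
import Cfsg.Agent.H677.OrdSporIso

/-!
# A simple group of the order of a sporadic group is isomorphic to it
-/

set_option autoImplicit false

namespace Cfsg.Agent.H707.Odd

open Cfsg

universe u v

theorem equiv_of_card {K : Type u} [Group K] [Finite K] (hK : IsSporadicGroup K ∨ Lie.IsoTits K) {M : Type v} [Group M]
    [Finite M] (hs : IsSimpleGroup M) (hk : Nat.card M = Nat.card K) (hp : ¬ (Nat.card K).Prime) :
    Nonempty (K ≃* M) := by
  rcases H437.cases M with h | ⟨n, hn, ⟨e⟩⟩ | ⟨A, p, f, h⟩ | h | h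
  · rw [hk] at h
    exact absurd h hp
  · have h1 := H437.two_mul_card_alt (by omega) e
    rw [hk] at h1
    exact (H677.OrdSporIso.alt_spor hK h1).elim
  · have h1 := h.isOrd
    rw [hk] at h1
    exact (H677.OrdSporIso.lie_spor hK h1).elim
  · exact H677.OrdSporIso.spor_spor hK (Or.inr h) hk.symm
  · exact H677.OrdSporIso.spor_spor hK (Or.inl h) hk.symm

end Cfsg.Agent.H707.Odd
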