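import Cfsg.Agent.H707.Odd.Divs
import Cfsg.Agent.H707.Odd.Iso
import Cfsg.Agent.S0477
import Cfsg.Agent.NotCT.Orders

/-!
# Rational irreducible characters of odd degree: the McLaughlin group

`McL` acts with rank five on 7128 points (cosets of `U_3(5)`), seen in the centraliser `3·McL` of an element of order
three of the Lyons group.
-/

set_option autoImplicit false

namespace Cfsg.Agent.H707.Odd.McL

open Cfsg Cfsg.Agent.H636.Gow Cfsg.Agent.H707.Odd Cfsg.Agent.H707 MulAction Subgroup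
open Cfsg.Agent.Ly Cfsg.Agent.Ly.Mat7 Cfsg.Agent.Ly.McL.Data Cfsg.Agent.Ly.Walk Cfsg.Agent.Ly.WalkCtx Cfsg.Agent.Ly.McL.Lists Cfsg.Agent.Ly.McL.Main
  Cfsg.Agent.Ly.McL.Cosets
open Cfsg.Agent.Ly.Pres (gens)

/-- the element of order three -/
noncomputable def X : Spor.Ly := ev (X4 gens) xw

/-- its centraliser -/
noncomputable def C : Subgroup Spor.Ly := centralizer ({X} : Set Spor.Ly)

theorem card_A0 : Nat.card McL.Cent.A0 ≤ 378000 := McL.ClassX.card_centralizer_x_le T1.card_Hhat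

theorem main_C : Nat.card C = 2694384000 ∧ Nat.card (center C) = 3 ∧ IsMcL (C ⧸ center C) :=
  McL.Main.main Index.data Pres.closure_gens Setup.card_ly card_A0

theorem order_X : orderOf X = 3 := order_x' Index.data Pres.closure_gens Setup.card_ly

theorem X_mem_HH : X ∈ HH gens := ev_mem_HH gens xw

theorem memC (g : Spor.Ly) : g ∈ C ↔ g * X = X * g := mem_centralizer_singleton_iff

theorem inDC_w (g : Spor.Ly) : ∃ i : Fin 5, InDC (HH gens) (w gens i) g := by
  obtain ⟨i, hi, h1, hh1, h2, hh2, hg⟩ := Index.data.double_cosets Pres.closure_gens g⁻¹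
  refine ⟨⟨i, hi⟩, h2⁻¹, (HH gens).inv_mem hh2, h1⁻¹, (HH gens).inv_mem hh1, ?_⟩
  rw [← inv_inv g, hg, McL.Main.w]
  group

theorem cover (g : Spor.Ly) (hg : g ∈ C) : ∃ i : Fin 5, ∃ a ∈ HH gens, a ∈ C ∧ ∃ b ∈ HH gens, b ∈ C ∧
    g = a * c gens i * b := by
  obtain ⟨i, hi⟩ := inDC_w g
  obtain ⟨h, hh, hci⟩ := McL.Main.hc Index.data i
  have hcls' : ∀ k ∈ KK (HH gens) (w gens i), (∃ g ∈ HH gens, k = g * X * g⁻¹) →
      ∃ m ∈ KK (HH gens) (w gens i), k = m * ((u gens i)⁻¹ * X * u gens i) * m⁻¹ := by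
    by_cases hi0 : i = 0
    · subst hi0
      rintro k hk ⟨g, hg, rfl⟩
      have hw0 : w gens 0 = 1 := by
        show (base gens 0)⁻¹ = 1
        exact inv_one
      have hK0 : ∀ k, k ∈ KK (HH gens) (w gens 0) ↔ k ∈ HH gens := by
        intro k
        rw [hw0, mem_KK]
        simp
      have hu0 : u gens 0 ∈ HH gens := McL.Main.hu 0
      refine ⟨g * u gens 0, (hK0 _).mpr ((HH gens).mul_mem hg hu0), by group⟩
    · exact McL.Main.hcls Index.data Pres.closure_gens Setup.card_ly i hi0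
  obtain ⟨a, ha, hax, b, hb, hbx, e⟩ := centralizer_dc (HH gens) X (McL.Main.hu i) hh hci
    (McL.Main.hcx Index.data i) X_mem_HH hcls' ((memC g).mp hg) hi
  exact ⟨i, a, ha, (memC a).mpr hax, b, hb, (memC b).mpr hbx, e⟩

theorem c_mem (i : Fin 5) : c gens i ∈ C := (memC _).mpr (McL.Main.hcx Index.data i)

/-- the point stabiliser in `3·McL` -/
noncomputable def A : Subgroup C := (HH gens).subgroupOf C

theorem card_A : Nat.card A = 378000 := by
  rw [← hA0 Index.data Pres.closure_gens Setup.card_ly (McL.Cent.card_A0 card_A0)]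
  apply Nat.card_congr
  exact ⟨fun a => ⟨a.1.1, mem_inf.mpr ⟨a.1.2, a.2⟩⟩, fun a => ⟨⟨a.1, (mem_inf.mp a.2).1⟩, (mem_inf.mp a.2).2⟩,
      fun a => rfl, fun a => rfl⟩

theorem index_A : A.index = 7128 := by
  have h := A.card_mul_index
  rw [card_A, main_C.1] at h
  omega

theorem center_le : center C ≤ A := by
  have hX : (⟨X, (memC X).mpr rfl⟩ : C) ∈ center C := by
    rw [mem_center_iff]
    intro g
    exact Subtype.ext ((memC g).mp g.2)
  have h1 : zpowers (⟨X, (memC X).mpr rfl⟩ : C) = center C := by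
    apply eq_of_le_of_card_ge
    · rw [zpowers_le]; exact hX
    · rw [main_C.2.1, Nat.card_zpowers, Subgroup.orderOf_mk, order_X]
  rw [← h1, zpowers_le]
  exact X_mem_HH

theorem chk_mcl : chk [(3,6),(5,3),(7,1),(11,1)] 898128000 7128 [] = true := by decide +kernel

theorem card_quot : Nat.card (C ⧸ center C) = 898128000 := main_C.2.2.2

/-- the point stabiliser -/
noncomputable def B : Subgroup (C ⧸ center C) := A.map (QuotientGroup.mk' (center C))

theorem comap_B : B.comap (QuotientGroup.mk' (center C)) = A := by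
  rw [B, comap_map_eq, QuotientGroup.ker_mk', sup_eq_left]
  exact center_le

theorem index_B : B.index = 7128 := by
  rw [← index_comap_of_surjective B (QuotientGroup.mk'_surjective (center C)), comap_B, index_A]

theorem ratOdd : RatOdd (C ⧸ center C) := by
  have hc := card_quot
  refine ratOdd_five_cosets B [(3,6),(5,3),(7,1),(11,1)] ?_ (a := 7) ?_ ?_ ?_ [] ?_ ?_
  · intro x hx
    simp only [List.mem_cons, List.not_mem_nil, or_false] at hx
    rcases hx with rfl | rfl | rfl | rfl <;> norm_num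
  · rw [hc]
    rfl
  · rw [index_B]
    decide
  · refine Rank.card_orbits_le _ (k := 5)
      (fun i => ((QuotientGroup.mk' (center C) ⟨c gens i, c_mem i⟩ : C ⧸ center C) : (C ⧸ center C) ⧸ B)) fun y => ?_
    induction y using QuotientGroup.induction_on with | _ g =>
    obtain ⟨g, rfl⟩ := QuotientGroup.mk'_surjective (center C) g
    obtain ⟨i, a, ha, haC, b, hb, hbC, hg⟩ := cover g g.2
    have hg' : g = ⟨a, haC⟩ * ⟨c gens i, c_mem i⟩ * ⟨b, hbC⟩ := Subtype.ext hg
    refine ⟨i, ⟨QuotientGroup.mk' (center C) ⟨a, haC⟩, ⟨⟨a, haC⟩, ha, rfl⟩⟩, ?_⟩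
    change ((QuotientGroup.mk' (center C) ⟨a, haC⟩ * QuotientGroup.mk' (center C) ⟨c gens i, c_mem i⟩ : C ⧸ center C) :
      (C ⧸ center C) ⧸ B) = ((QuotientGroup.mk' (center C) g : C ⧸ center C) : (C ⧸ center C) ⧸ B)
    rw [QuotientGroup.eq, hg', map_mul, map_mul]
    refine ⟨⟨b, hbC⟩, hb, ?_⟩
    group
  · rw [hc, index_B]
    exact chk_mcl
  · intro d hd
    exact absurd hd (List.not_mem_nil)

theorem row {K : Type*} [Group K] [Finite K] (h : Spor.IsoMcL K) : RatOdd K := by
  have hc : Nat.card K = 898128000 := NotCT.Orders.mcl h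
  obtain ⟨e⟩ := equiv_of_card (K := K) (M := C ⧸ center C) (Or.inl (by unfold IsSporadicGroup; tauto)) main_C.2.2.1
    (by rw [card_quot, hc]) (by rw [hc]; norm_num)
  exact RatOdd.of_equiv e ratOdd

end Cfsg.Agent.H707.Odd.McL
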