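import Cfsg.Agent.H707.Odd.Orbital
import Cfsg.Agent.S1683

/-!
# A rational irreducible character of degree 1275 of the Held group
-/

set_option autoImplicit false
set_option maxRecDepth 100000

namespace Cfsg.Agent.H707.Odd.He

open Cfsg Cfsg.Spor Cfsg.Spor.He Cfsg.Agent.SporadicB.HePerm Cfsg.Agent.H636.Gow Cfsg.Agent.H707.Odd
open Cfsg.Agent.S1683 (K_eq_St St map_K exists_map_zero word_mem)

noncomputable instance instActHe : MulAction Cfsg.Spor.He (Fin 2058) := MulAction.compHom _ phi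

theorem smul_eq (g : Cfsg.Spor.He) (i : Fin 2058) : g • i = phi g i := rfl

/-- the words -/
def w : Fin 5 → List Gen := ![[], [.b], [.e, .d, .a, .b, .c, .d, .c, .b], [.g, .f, .d, .c, .d, .c, .b],
  [.g, .c, .d, .b, .c, .d, .f, .e, .d, .c, .b]]

/-- the representatives -/
def rn : Fin 5 → ℕ := ![0, 1, 8, 37, 218]

theorem rn_lt : ∀ i, rn i < 2058 := by decide

theorem w_act : ∀ i, Nat.beq (act (w i) 0) (rn i) = true := by decide +kernel

def r (i : Fin 5) : Fin 2058 := ⟨rn i, rn_lt i⟩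

theorem w_smul (i : Fin 5) : wd (w i) • (0 : Fin 2058) = r i := by
  apply Fin.ext
  rw [smul_eq, phi_wd_apply]
  exact Nat.eq_of_beq_eq_true (w_act i)

/-- the class -/
def cls (i : Fin 2058) : Fin 5 := ⟨lab i, lab_lt i⟩

/-- the class of a number -/
def labN (i : ℕ) : ℕ := ivl (look Data.kPos i)

theorem cls_val (i : Fin 2058) : ((cls i : Fin 5) : ℕ) = labN i := rfl

theorem beq_iff {a b : ℕ} : Nat.beq a b = true ↔ a = b :=
  ⟨Nat.eq_of_beq_eq_true, fun h => by rw [h]; exact Nat.beq_refl b⟩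

/-- the collapsed matrix -/
def B : Fin 5 → Fin 5 → ℕ := ![![0, 0, 0, 136, 0], ![0, 90, 30, 6, 10], ![0, 96, 16, 24, 0], ![0, 100, 0, 0, 36],
  ![1, 60, 75, 0, 0]]

theorem B_check : ∀ i j : Fin 5, Nat.beq (cnt (fun z => and (Nat.beq (labN z) 3) (Nat.beq (labN (act (w i) z)) j)) 2058)
    (B i j) = true := by decide +kernel

theorem hB (i j : Fin 5) : (Finset.univ.filter fun z : Fin 2058 => cls z = 3 ∧ cls (wd (w i) • z) = j).card = B i j := by
  rw [← Nat.eq_of_beq_eq_true (B_check i j), ← card_filter_fin]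
  congr 1
  ext z
  rw [Finset.mem_filter, Finset.mem_filter, Bool.and_eq_true]
  have h1 : cls z = 3 ↔ Nat.beq (labN z) 3 = true := by
    rw [Fin.ext_iff, cls_val]
    exact beq_iff.symm
  have h2 : cls (wd (w i) • z) = j ↔ Nat.beq (labN (act (w i) z)) j = true := by
    rw [Fin.ext_iff, cls_val, smul_eq, phi_wd_apply]
    exact beq_iff.symm
  rw [h1, h2]

/-- the sizes -/
def k : Fin 5 → ℕ := ![1, 1360, 425, 136, 136]

theorem hk (i : Fin 5) : (Finset.univ.filter fun y : Fin 2058 => cls y = i).card = k i := by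
  have h1 : (Finset.univ.filter fun y : Fin 2058 => cls y = i) = sub i := by
    ext y
    rw [Finset.mem_filter, mem_sub i i.2, Fin.ext_iff]
    exact ⟨fun h => h.2, fun h => ⟨Finset.mem_univ _, h⟩⟩
  rw [h1, card_sub]
  fin_cases i <;> rfl

/-- the eigenvector -/
def a : Fin 5 → ℚ := ![1, 1 / 85, -9 / 425, -1 / 34, -1 / 34]

theorem hBa : ∀ i, ∑ j, (B i j : ℚ) * a j = -4 * a i := by decide +kernel

theorem hsum : (1275 : ℚ) * ∑ i, (k i : ℚ) * a i ^ 2 = 2058 := by decide +kernel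

theorem huniq (a' : Fin 5 → ℚ) (h : ∀ i, ∑ j, (B i j : ℚ) * a' j = -4 * a' i) (i : Fin 5) : a' i = a' 0 * a i := by
  have h0 := h 0
  have h1 := h 1
  have h2 := h 2
  have h3 := h 3
  have h4 := h 4
  simp only [B, Fin.sum_univ_five, Matrix.cons_val] at h0 h1 h2 h3 h4
  norm_num at h0 h1 h2 h3 h4
  fin_cases i
  · show a' 0 = a' 0 * 1
    rw [mul_one]
  · show a' 1 = a' 0 * (1 / 85)
    linarith
  · show a' 2 = a' 0 * (-9 / 425)
    linarith
  · show a' 3 = a' 0 * (-1 / 34)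
    linarith
  · show a' 4 = a' 0 * (-1 / 34)
    linarith

theorem cls_zero : cls 0 = 0 := by decide +kernel

theorem mem_K {g : Cfsg.Spor.He} (hg : g • (0 : Fin 2058) = 0) : phi g ∈ S1683.K.map phi := by
  refine ⟨g, ?_, rfl⟩
  rw [SetLike.mem_coe, K_eq_St]
  exact hg

theorem root_eq (i : Fin 5) : root i = r i := by
  fin_cases i <;> rfl

theorem ratOdd_He : RatOdd Cfsg.Spor.He := by
  obtain ⟨hfin, -⟩ := Cfsg.Agent.SporadicB.HeUpper.card_he_le
  refine ratOdd_of_orbital (0 : Fin 2058) cls r ?_ ?_ 3 (fun i => wd (w i)) w_smul B hB a (-4) hBa ?_ ?_ ?_ k hk 1275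
    (by decide) (by decide) ?_
  · intro g hg x
    have h1 := mem_K hg
    rw [map_K] at h1
    exact Fin.ext (lab_closure h1 x)
  · intro x
    obtain ⟨p, hp, hpx⟩ := reach_sub (lab x) (lab_lt x) (S1683.K.map phi) (fun w hw => word_mem hw) x
      ((mem_sub _ (lab_lt x) x).2 rfl)
    obtain ⟨g, hg, rfl⟩ := hp
    refine ⟨g, ?_, ?_⟩
    · rw [SetLike.mem_coe, K_eq_St] at hg
      exact hg
    · rw [smul_eq, ← root_eq]
      exact hpx
  · intro a' h i
    rw [cls_zero]
    exact huniq a' h i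
  · rw [cls_zero]
    rfl
  · intro x y
    obtain ⟨g, hg⟩ := exists_map_zero x
    obtain ⟨h, hh⟩ := exists_map_zero y
    refine ⟨h * g⁻¹, ?_⟩
    rw [mul_smul, smul_eq h, ← hg, ← smul_eq g, inv_smul_smul]
    exact hh
  · rw [Fintype.card_fin]
    exact_mod_cast hsum

theorem row {K : Type*} [Group K] [Finite K] (h : Spor.IsoHe K) : RatOdd K := by
  obtain ⟨e⟩ := h
  exact RatOdd.of_equiv e ratOdd_He

end Cfsg.Agent.H707.Odd.He
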