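import Cfsg.Agent.H707.Odd.Divs
import Cfsg.Agent.SporadicB.J1.Main

/-!
# Rational irreducible characters of odd degree: the first Janko group

Rank five on 266 points; the only exceptional pair of degrees (15, 220) would consist of characters of 5-defect zero,
but elements of order five have several fixed points.
-/

set_option autoImplicit false
set_option maxRecDepth 100000

namespace Cfsg.Agent.H707.Odd.J1

open Cfsg Cfsg.Agent.H636.Gow Cfsg.Agent.H707.Odd Cfsg.Agent.H707 MulAction
open Cfsg.Agent.SporadicB.J1 Cfsg.Agent.SporadicB.J1.Mat Cfsg.Agent.SporadicB.J1.Data Cfsg.Agent.SporadicB.KTab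
  Cfsg.Agent.SporadicB Cfsg.Spor

def aB : Nat := 25270582160548901867700383811582260518221718482532392387083126709062204377406531157430665106509088952450386490125144560346821603076553162019507263724543156028879168779147329296993426224492285560656839207045673428878242606331231638919864827063348070649478054149694176487556709518721077091944623957578445663117035397122653078122505287540155203619091248796362217673073604535148739482075619588455869458964485269857341750463951252095012444658214358566138498736569069143771480354876109767959552839387966346172145536270492462843782221404926885666922383976230224544271596534007126595988058762249879432278825282797289281991123913807768102109946217276771743806229669406951778109251066458994558652912074872041088190674981482199868388921143707063133159457900895055217422642993537464841156177341986611991813292032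
def rB : Nat := 238151435050660377668652907429673884438538371186737764696539198438819711616571656387678599581210996561039177345173614947752592805930732445626527985712092277492290591815710407831515907322651135775980702915236707721025796759128370362578440840
def mB : Nat := 340218883447868915446274660984291767752981305066828560516698232331990248080103638451221102259815802048525101378360997036011966951037998170022701990070263528472429916628769151749499489541485170084491193722628537286705355419412891369580019482584753487011933764494067868987608862976647271578806038709796319958833303864916466502304598985379403202599035325912709743097102386608720197784167030327005452912481683510215067561702300093981658360940719738363933401575554769580145442808788030679795930989851127424514673171085278150570853093387948798632876746715561005410955503023703002733568614376796450437961664695739374839114834948163498381569892749529600109961946719925038580115743984924693340710663578046141005855761388283307348363563593131722673042900380044108979383928254688988044625888812717122786183610368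

/-- the representatives -/
def rp (r : Nat) : Nat := bif Nat.beq r 0 then 0 else bif Nat.beq r 1 then 1 else bif Nat.beq r 2 then 2 else
  bif Nat.beq r 3 then 22 else 43

def chkO (i : Nat) : Bool :=
  (Nat.ble 266 i).or ((Nat.blt (get 10 aB i) 660).and ((Nat.blt (get 10 mB i) 660).and ((Nat.blt (get 3 rB i) 5).and
    (Nat.beq (mulC (H (get 10 aB i)) (T (rp (get 3 rB i)))) (mulC (T i) (H (get 10 mB i)))))))

theorem allO : allR chkO 9 0 = true := by decide +kernel

theorem five1 : Nat.beq (mulC (H 1) (T 158)) (mulC (T 158) (H 308)) = true := by decide +kernel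
theorem five2 : Nat.beq (powC (H 1) 5 cI) cI = true := by decide +kernel
theorem five3 : diffC (H 1) cI = true := by decide +kernel

/-- the matrix of an element -/
def val (g : J1) : Matrix (Fin 7) (Fin 7) (ZMod 11) := ((g : GL (Fin 7) (ZMod 11)) : Matrix (Fin 7) (Fin 7) (ZMod 11))

theorem val_mul (g h : J1) : val (g * h) = val g * val h := rfl

theorem val_one : val 1 = 1 := rfl

theorem val_inj {g h : J1} (e : val g = val h) : g = h := Subtype.ext (Units.ext e)

theorem card_J1 : Nat.card J1 = 175560 := Main.isJ1.2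

instance : Finite J1 := Nat.finite_of_card_ne_zero (by rw [card_J1]; norm_num)

/-- the parametrisation -/
def f (p : Fin 266 × Fin 660) : Matrix (Fin 7) (Fin 7) (ZMod 11) := dec (T p.1) * dec (H p.2)

theorem exists_f (g : J1) : ∃ p, f p = val g := by
  obtain ⟨i, hi, k, hk, h⟩ := Main.mem_S_of_mem g.2
  exact ⟨(⟨i, hi⟩, ⟨k, hk⟩), h.symm⟩

/-- the coordinates -/
noncomputable def F (g : J1) : Fin 266 × Fin 660 := (exists_f g).choose

theorem f_F (g : J1) : f (F g) = val g := (exists_f g).choose_spec

theorem F_bij : Function.Bijective F := by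
  have hinj : Function.Injective F := by
    intro a b hab
    apply val_inj
    rw [← f_F a, ← f_F b, hab]
  rw [Nat.bijective_iff_injective_and_card]
  refine ⟨hinj, ?_⟩
  rw [card_J1]
  simp

theorem exists_val (p : Fin 266 × Fin 660) : ∃ g, val g = f p := by
  obtain ⟨g, hg⟩ := F_bij.2 p
  exact ⟨g, by rw [← hg, f_F]⟩

theorem f_inj {p q : Fin 266 × Fin 660} (h : f p = f q) : p = q := by
  obtain ⟨g, hg⟩ := F_bij.2 p
  obtain ⟨k, hk⟩ := F_bij.2 q
  rw [← hg, ← hk] at h ⊢
  rw [f_F, f_F] at h
  rw [val_inj h]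

theorem exists_H {k : ℕ} (hk : k < 660) : ∃ g : J1, val g = dec (H k) := by
  obtain ⟨g, hg⟩ := exists_val (0, ⟨k, hk⟩)
  refine ⟨g, ?_⟩
  rw [hg]
  show dec (T 0) * dec (H k) = _
  rw [T0, Main.dec_cI, one_mul]

theorem exists_T {i : ℕ} (hi : i < 266) : ∃ g : J1, val g = dec (T i) := by
  obtain ⟨g, hg⟩ := exists_val (⟨i, hi⟩, 0)
  refine ⟨g, ?_⟩
  rw [hg]
  show dec (T i) * dec (H 0) = _
  rw [Data.H0, Main.dec_cI, mul_one]

/-- the subgroup of index 266 -/
def L : Subgroup J1 where
  carrier := {g | ∃ k < 660, val g = dec (H k)}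
  mul_mem' := by
    rintro g h ⟨k, hk, e⟩ ⟨l, hl, e'⟩
    obtain ⟨m, hm, e''⟩ := Main.H_mul k hk l hl
    exact ⟨m, hm, by rw [val_mul, e, e', e'']⟩
  one_mem' := ⟨0, by norm_num, by rw [Data.H0, Main.dec_cI, val_one]⟩
  inv_mem' := by
    rintro g ⟨k, hk, e⟩
    have key : ∀ n : ℕ, ∃ m < 660, val (g ^ n) = dec (H m) := by
      intro n
      induction n with
      | zero => exact ⟨0, by norm_num, by rw [pow_zero, Data.H0, Main.dec_cI, val_one]⟩
      | succ n ih =>
        obtain ⟨m, hm, e'⟩ := ih
        obtain ⟨m', hm', e''⟩ := Main.H_mul m hm k hk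
        exact ⟨m', hm', by rw [pow_succ, val_mul, e', e, e'']⟩
    have h1 : g⁻¹ = g ^ (orderOf g - 1) := by
      rw [inv_eq_iff_mul_eq_one, ← pow_succ', Nat.sub_add_cancel (orderOf_pos g), pow_orderOf_eq_one]
    show ∃ m < 660, val g⁻¹ = dec (H m)
    rw [h1]
    exact key _

theorem mem_L {g : J1} : g ∈ L ↔ ∃ k < 660, val g = dec (H k) := Iff.rfl

/-- the representatives -/
noncomputable def t (i : Fin 266) : J1 := (exists_T i.2).choose

theorem val_t (i : Fin 266) : val (t i) = dec (T i) := (exists_T i.2).choose_spec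

theorem mk_eq_iff (i : Fin 266) (g : J1) : ((t i : J1) : J1 ⧸ L) = (g : J1 ⧸ L) ↔
    ∃ k < 660, val g = dec (T i) * dec (H k) := by
  rw [QuotientGroup.eq, mem_L]
  constructor
  · rintro ⟨k, hk, e⟩
    refine ⟨k, hk, ?_⟩
    rw [← e, ← val_t, ← val_mul, mul_inv_cancel_left]
  · rintro ⟨k, hk, e⟩
    obtain ⟨h, hh⟩ := exists_H hk
    refine ⟨k, hk, ?_⟩
    rw [← hh, ← val_t, ← val_mul] at e
    rw [val_inj e, inv_mul_cancel_left, hh]

theorem t_bij : Function.Bijective (fun i : Fin 266 => ((t i : J1) : J1 ⧸ L)) := by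
  constructor
  · intro i j hij
    obtain ⟨k, hk, e⟩ := (mk_eq_iff i (t j)).1 hij
    have h1 : f (j, 0) = f (i, ⟨k, hk⟩) := by
      show dec (T j) * dec (H 0) = dec (T i) * dec (H k)
      rw [← e, val_t, Data.H0, Main.dec_cI, mul_one]
    exact (congrArg Prod.fst (f_inj h1)).symm
  · intro q
    induction q using QuotientGroup.induction_on with | _ g =>
    obtain ⟨⟨i, k⟩, hp⟩ := exists_f g
    exact ⟨i, (mk_eq_iff i g).2 ⟨k, k.2, hp.symm⟩⟩

theorem index_L : L.index = 266 := by
  show Nat.card (J1 ⧸ L) = 266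
  rw [← Nat.card_congr (Equiv.ofBijective _ t_bij), Nat.card_eq_fintype_card, Fintype.card_fin]

theorem rp_lt (r : Nat) : rp r < 266 := by
  unfold rp
  cases Nat.beq r 0 <;> cases Nat.beq r 1 <;> cases Nat.beq r 2 <;> cases Nat.beq r 3 <;> decide

theorem orb {i : Nat} (hi : i < 266) : ∃ a < 660, ∃ m < 660, ∃ r < 5,
    dec (H a) * dec (T (rp r)) = dec (T i) * dec (H m) := by
  have h := KTab.allR_zero allO i (lt_trans hi (by norm_num))
  have hi' : Nat.ble 266 i = false := by
    rw [← Bool.not_eq_true, Nat.ble_eq]; omega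
  rw [chkO, hi', Bool.false_or, Bool.and_eq_true, Bool.and_eq_true, Bool.and_eq_true, Nat.blt_eq, Nat.blt_eq,
    Nat.blt_eq, Nat.beq_eq] at h
  obtain ⟨h1, h2, h3, h4⟩ := h
  refine ⟨_, h1, _, h2, _, h3, ?_⟩
  rw [← dec_mul, h4, dec_mul]

theorem cover (q : J1 ⧸ L) : ∃ r : Fin 5, q ∈ orbit L ((t ⟨rp r, rp_lt r⟩ : J1) : J1 ⧸ L) := by
  obtain ⟨i, rfl⟩ := t_bij.2 q
  obtain ⟨a, ha, m, hm, r, hr, e⟩ := orb i.2
  obtain ⟨h, hh⟩ := exists_H ha
  refine ⟨⟨r, hr⟩, ⟨h, a, ha, hh⟩, ?_⟩
  change ((h * t ⟨rp r, rp_lt r⟩ : J1) : J1 ⧸ L) = ((t i : J1) : J1 ⧸ L)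
  rw [eq_comm, mk_eq_iff]
  exact ⟨m, hm, by rw [val_mul, hh, val_t, e]⟩

theorem exists_five : ∃ x ∈ L, 5 ∣ orderOf x ∧ ∃ g, g ∉ L ∧ g⁻¹ * x * g ∈ L := by
  obtain ⟨x, hx⟩ := exists_H (k := 1) (by norm_num)
  obtain ⟨y, hy⟩ := exists_H (k := 308) (by norm_num)
  have hp : Fact (Nat.Prime 5) := ⟨by norm_num⟩
  have hrep : Main.Rep x (H 1) := hx
  have h5 : x ^ 5 = 1 := (hrep.pow 5).eq Main.Rep.one (Nat.eq_of_beq_eq_true five2)
  have hne : x ≠ 1 := hrep.ne Main.Rep.one five3
  have hord : orderOf x = 5 := orderOf_eq_prime h5 hne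
  have e1 : x * t ⟨158, by norm_num⟩ = t ⟨158, by norm_num⟩ * y := by
    apply val_inj
    rw [val_mul, val_mul, hx, hy, val_t]
    show dec (H 1) * dec (T 158) = dec (T 158) * dec (H 308)
    rw [← dec_mul, ← dec_mul, Nat.eq_of_beq_eq_true five1]
  refine ⟨x, ⟨1, by norm_num, hx⟩, by rw [hord], t ⟨158, by norm_num⟩, ?_, ?_⟩
  · intro h
    have h1 : ((t ⟨0, by norm_num⟩ : J1) : J1 ⧸ L) = ((t ⟨158, by norm_num⟩ : J1) : J1 ⧸ L) := by
      rw [mk_eq_iff]
      obtain ⟨k, hk, e⟩ := h
      refine ⟨k, hk, ?_⟩
      rw [e]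
      show _ = dec (T 0) * _
      rw [T0, Main.dec_cI, one_mul]
    have h2 := congrArg Fin.val (t_bij.1 h1)
    exact absurd h2 (by norm_num)
  · rw [mul_assoc, e1, inv_mul_cancel_left]
    exact ⟨308, by norm_num, hy⟩

theorem chk_j1 : chk [(3, 1), (5, 1), (7, 1), (11, 1), (19, 1)] 175560 266 [15] = true := by decide +kernel

theorem ratOdd_J1 : RatOdd J1 := by
  refine ratOdd_five_cosets' L [(3, 1), (5, 1), (7, 1), (11, 1), (19, 1)] ?_ (a := 3) ?_ ?_ ?_ [15] ?_ ?_
  · intro x hx
    simp only [List.mem_cons, List.not_mem_nil, or_false] at hx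
    rcases hx with rfl | rfl | rfl | rfl | rfl <;> norm_num
  · rw [card_J1]
    rfl
  · rw [index_L]
    decide
  · exact Rank.card_orbits_le _ (k := 5) (fun r => ((t ⟨rp r, rp_lt r⟩ : J1) : J1 ⧸ L)) cover
  · rw [card_J1, index_L]
    exact chk_j1
  · intro d hd
    rw [List.mem_singleton] at hd
    subst hd
    refine Or.inr ⟨5, 1, by norm_num, ?_, ?_, by norm_num, ?_, exists_five⟩
    · rw [card_J1]; norm_num
    · rw [card_J1]; norm_num
    · rw [index_L]; norm_num

theorem row {K : Type*} [Group K] [Finite K] (h : Spor.IsoJ1 K) : RatOdd K := by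
  obtain ⟨e⟩ := h
  exact RatOdd.of_equiv e ratOdd_J1

end Cfsg.Agent.H707.Odd.J1
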