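import Cfsg.Agent.H707.Odd.Divs
import Cfsg.Agent.Ly.Setup

/-!
# Rational irreducible characters of odd degree: the Lyons group

Rank five on 8835156 points; the only exceptional pair of degrees (1085, 8831900) would consist of characters of
7-defect zero, but elements of order seven have several fixed points.
-/

set_option autoImplicit false

namespace Cfsg.Agent.H707.Odd.Ly

open Cfsg Cfsg.Agent.H636.Gow Cfsg.Agent.H707.Odd Cfsg.Agent.H707 MulAction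

theorem chk_ly : chk [(3, 7), (5, 6), (7, 1), (11, 1), (31, 1), (37, 1), (67, 1)] 51765179004000000 8835156 [1085] =
    true := by decide +kernel

theorem exists_seven : ∃ x ∈ Cfsg.Agent.Ly.Setup.psi.range, 7 ∣ orderOf x ∧ ∃ g, g ∉ Cfsg.Agent.Ly.Setup.psi.range ∧
    g⁻¹ * x * g ∈ Cfsg.Agent.Ly.Setup.psi.range := by
  obtain ⟨h1, h2⟩ := Cfsg.Agent.Ly.Setup.exact' 2
  have hp : Fact (Nat.Prime 7) := ⟨by norm_num⟩
  have hc : Nat.card (((Cfsg.Agent.Ly.Setup.Hs 2).map Cfsg.Agent.Ly.Setup.psi)) = 6048 := h2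
  obtain ⟨k, hk⟩ := exists_prime_orderOf_dvd_card' (G := ((Cfsg.Agent.Ly.Setup.Hs 2).map Cfsg.Agent.Ly.Setup.psi)) 7
    (by rw [hc]; norm_num)
  obtain ⟨h3, y, hy, e⟩ := h1.le k.2
  refine ⟨k, h3, by rw [Subgroup.orderOf_coe, hk], Cfsg.Agent.Ly.Setup.w 2, ?_, ?_⟩
  · intro hw
    have h4 : (Cfsg.Agent.Ly.Setup.psi.range).map (MulAut.conj (Cfsg.Agent.Ly.Setup.w 2)).toMonoidHom =
        Cfsg.Agent.Ly.Setup.psi.range := by
      ext z
      rw [Subgroup.mem_map]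
      constructor
      · rintro ⟨u, hu, rfl⟩
        exact Subgroup.mul_mem _ (Subgroup.mul_mem _ hw hu) (Subgroup.inv_mem _ hw)
      · intro hz
        refine ⟨(Cfsg.Agent.Ly.Setup.w 2)⁻¹ * z * Cfsg.Agent.Ly.Setup.w 2,
          Subgroup.mul_mem _ (Subgroup.mul_mem _ (Subgroup.inv_mem _ hw) hz) hw, ?_⟩
        show Cfsg.Agent.Ly.Setup.w 2 * ((Cfsg.Agent.Ly.Setup.w 2)⁻¹ * z * Cfsg.Agent.Ly.Setup.w 2) *
          (Cfsg.Agent.Ly.Setup.w 2)⁻¹ = z
        group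
    rw [h4, inf_idem] at h1
    rw [h1, Cfsg.Agent.Ly.Setup.card_range] at hc
    norm_num at hc
  · have e' : Cfsg.Agent.Ly.Setup.w 2 * y * (Cfsg.Agent.Ly.Setup.w 2)⁻¹ = k := e
    rw [← e']
    have h5 : (Cfsg.Agent.Ly.Setup.w 2)⁻¹ * (Cfsg.Agent.Ly.Setup.w 2 * y * (Cfsg.Agent.Ly.Setup.w 2)⁻¹) *
        Cfsg.Agent.Ly.Setup.w 2 = y := by group
    rw [h5]
    exact hy

theorem ratOdd_ly : RatOdd Spor.Ly := by
  have hc := Cfsg.Agent.Ly.Setup.card_ly
  have hi := Cfsg.Agent.Ly.Setup.index_range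
  refine ratOdd_five_cosets' Cfsg.Agent.Ly.Setup.psi.range
    [(3, 7), (5, 6), (7, 1), (11, 1), (31, 1), (37, 1), (67, 1)] ?_ (a := 8) ?_ ?_ ?_ [1085] ?_ ?_
  · intro x hx
    simp only [List.mem_cons, List.not_mem_nil, or_false] at hx
    rcases hx with rfl | rfl | rfl | rfl | rfl | rfl | rfl <;> norm_num
  · rw [hc]
    rfl
  · rw [hi]
    decide
  · refine Rank.card_orbits_le _ (k := 5) (fun i => (Cfsg.Agent.Ly.Setup.w i : Spor.Ly ⧸ _)) fun y => ?_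
    induction y using QuotientGroup.induction_on with | _ g =>
    obtain ⟨i, h1, hh1, h2, hh2, hg⟩ := Cfsg.Agent.Ly.Setup.cover g
    refine ⟨i, ⟨h1, hh1⟩, ?_⟩
    change ((h1 * Cfsg.Agent.Ly.Setup.w i : Spor.Ly) : Spor.Ly ⧸ Cfsg.Agent.Ly.Setup.psi.range) = (g : _)
    rw [QuotientGroup.eq, hg]
    have h3 : (h1 * Cfsg.Agent.Ly.Setup.w i)⁻¹ * (h1 * Cfsg.Agent.Ly.Setup.w i * h2) = h2 := by group
    rw [h3]
    exact hh2
  · rw [hc, hi]
    exact chk_ly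
  · intro d hd
    rw [List.mem_singleton] at hd
    subst hd
    refine Or.inr ⟨7, 1, by norm_num, ?_, ?_, by norm_num, ?_, exists_seven⟩
    · rw [hc]; norm_num
    · rw [hc]; norm_num
    · rw [hi]
      norm_num

theorem row {K : Type*} [Group K] [Finite K] (h : Spor.IsoLy K) : RatOdd K := by
  obtain ⟨e⟩ := h
  exact RatOdd.of_equiv e ratOdd_ly

end Cfsg.Agent.H707.Odd.Ly
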