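import Cfsg.Agent.H707.Odd.ONChk

/-!
# Rational irreducible characters of odd degree: the O'Nan group
-/

set_option autoImplicit false
set_option maxRecDepth 100000

namespace Cfsg.Agent.H707.Odd.ON

open Cfsg Cfsg.Agent.H636.Gow Cfsg.Agent.H707.Odd
open Cfsg.Agent.Lib.PermNet Cfsg.Agent.Lib.PermNetOrbit Cfsg.Agent.Fischer.Fi24RepLib
  Cfsg.Agent.ONType.RepDef Cfsg.Agent.ONType.Rep Cfsg.Agent.ONType.RepOrbData
open Cfsg.Agent.ONType.RepOrb (H H_fix H_eq index_and_suborbits UG orbA orbB orbC orbD pcA pcB pcC pcD ltA ltB ltC ltD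
  orbG ncardG)
open Cfsg.Spor.ON (Gen)

theorem finite_ON : Finite Cfsg.Spor.ON := by
  have h := (SporRec.ONFinal.index_eq SporRec.ONIndexUpper.index_ne_zero SporRec.ONIndexUpper.index_le).2.1
  exact Nat.finite_of_card_ne_zero (by rw [h]; norm_num)

theorem stab (x : Cfsg.Spor.ON) : rho x 0 = 0 ↔ x ∈ H :=
  (index_and_suborbits (by rw [H_eq]; exact SporRec.ONIndexUpper.index_le)
    (by rw [H_eq]; exact SporRec.ONIndexUpper.index_ne_zero)).2.1 x

/-- the points -/
abbrev X : Type := {p : ℕ // ∃ x : Cfsg.Spor.ON, rho x 0 = p}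

noncomputable instance : MulAction Cfsg.Spor.ON X where
  smul g p := ⟨rho g p.1, by
    obtain ⟨x, hx⟩ := p.2
    exact ⟨g * x, by rw [map_mul, Equiv.Perm.mul_apply, hx]⟩⟩
  one_smul p := Subtype.ext (by show rho 1 p.1 = p.1; rw [map_one]; rfl)
  mul_smul g h p := Subtype.ext (by show rho (g * h) p.1 = rho g (rho h p.1); rw [map_mul]; rfl)

theorem smul_val (g : Cfsg.Spor.ON) (p : X) : (g • p).1 = rho g p.1 := rfl

/-- the base point -/
def x0 : X := ⟨0, 1, by rw [map_one]; rfl⟩

theorem mem_UG (p : X) : UG.testBit p.1 = true := by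
  have h : p.1 ∈ {p : ℕ | ∃ x, rho x 0 = p} := p.2
  rw [orbG] at h
  exact h

theorem exists_of_UG {p : ℕ} (h : UG.testBit p = true) : ∃ x : Cfsg.Spor.ON, rho x 0 = p := by
  have h' : p ∈ {p : ℕ | UG.testBit p = true} := h
  rw [← orbG] at h'
  exact h'

theorem finite_X : Finite X := by
  have h : {p : ℕ | ∃ x : Cfsg.Spor.ON, rho x 0 = p}.Finite :=
    Set.finite_of_ncard_ne_zero (by rw [ncardG]; norm_num)
  exact h.to_subtype

noncomputable instance : Fintype X := @Fintype.ofFinite X finite_X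

theorem card_X : Fintype.card X = 122760 := by
  rw [← Nat.card_eq_fintype_card, ← ncardG]
  rfl

/-! ### the classes -/

theorem UG_iff (p : ℕ) : UG.testBit p = true ↔ ∃ j, (Uc j).testBit p = true := by
  have h : UG.testBit p = (U58653.testBit p || (U5586.testBit p || (U6384.testBit p || (U52136.testBit p ||
      (1 : ℕ).testBit p)))) := by
    show (U58653 ||| (U5586 ||| (U6384 ||| (U52136 ||| 1)))).testBit p = _
    simp only [Nat.testBit_or]
  rw [h, Fin.exists_fin_succ, Fin.exists_fin_succ, Fin.exists_fin_succ, Fin.exists_fin_succ, Fin.exists_fin_succ]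
  simp only [Bool.or_eq_true]
  show _ ↔ (1 : ℕ).testBit p = true ∨ U5586.testBit p = true ∨ U6384.testBit p = true ∨ U52136.testBit p = true ∨
    U58653.testBit p = true ∨ _
  constructor
  · rintro (h | h | h | h | h)
    · exact Or.inr (Or.inr (Or.inr (Or.inr (Or.inl h))))
    · exact Or.inr (Or.inl h)
    · exact Or.inr (Or.inr (Or.inl h))
    · exact Or.inr (Or.inr (Or.inr (Or.inl h)))
    · exact Or.inl h
  · rintro (h | h | h | h | h | ⟨i, -⟩)
    · exact Or.inr (Or.inr (Or.inr (Or.inr h)))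
    · exact Or.inr (Or.inl h)
    · exact Or.inr (Or.inr (Or.inl h))
    · exact Or.inr (Or.inr (Or.inr (Or.inl h)))
    · exact Or.inl h
    · exact i.elim0

theorem disj {U V p : ℕ} (h : Nat.beq (Nat.land U V) 0 = true) (h1 : U.testBit p = true) (h2 : V.testBit p = true) :
    False := by
  have h3 : U &&& V = 0 := Nat.eq_of_beq_eq_true h
  have h4 := congrArg (fun x => Nat.testBit x p) h3
  simp only [Nat.testBit_and, Nat.zero_testBit, h1, h2] at h4
  exact absurd h4 (by decide)

theorem Uc_inj {i j : Fin 5} {p : ℕ} (hi : (Uc i).testBit p = true) (hj : (Uc j).testBit p = true) : i = j := by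
  have key : ∀ i j : Fin 5, i < j → (Uc i).testBit p = true → (Uc j).testBit p = true → False := by
    intro i j hij hi hj
    fin_cases i <;> fin_cases j
    all_goals first
      | exact absurd hij (by decide)
      | exact disj dj01 hi hj
      | exact disj dj02 hi hj
      | exact disj dj03 hi hj
      | exact disj dj04 hi hj
      | exact disj dj12 hi hj
      | exact disj dj13 hi hj
      | exact disj dj14 hi hj
      | exact disj dj23 hi hj
      | exact disj dj24 hi hj
      | exact disj dj34 hi hj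
  rcases lt_trichotomy i j with h | h | h
  · exact (key i j h hi hj).elim
  · exact h
  · exact (key j i h hj hi).elim

/-- the class of a point -/
noncomputable def cls (p : X) : Fin 5 := Classical.choose ((UG_iff p.1).1 (mem_UG p))

theorem cls_spec (p : X) : (Uc (cls p)).testBit p.1 = true := Classical.choose_spec ((UG_iff p.1).1 (mem_UG p))

theorem cls_iff (p : X) (j : Fin 5) : cls p = j ↔ (Uc j).testBit p.1 = true :=
  ⟨fun h => h ▸ cls_spec p, fun h => Uc_inj (cls_spec p) h⟩

theorem orb (i : Fin 5) : {p : ℕ | ∃ x ∈ H, rho x (rp i) = p} = {p | (Uc i).testBit p = true} := by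
  have h0 : {p : ℕ | ∃ x ∈ H, rho x 0 = p} = {p | (1 : ℕ).testBit p = true} := by
    ext p
    constructor
    · rintro ⟨x, hx, rfl⟩
      show (1 : ℕ).testBit (rho x 0) = true
      rw [(stab x).2 hx]
      rfl
    · intro h
      have h1 : (1 : ℕ).testBit p = true := h
      have h2 : p = 0 := by
        by_contra h3
        rw [show (1 : ℕ) = 2 ^ 0 by rfl, Nat.testBit_two_pow] at h1
        exact h3 (by simpa using h1 : 0 = p).symm
      exact ⟨1, H.one_mem, by rw [map_one, h2]; rfl⟩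
  fin_cases i
  · exact h0
  · exact orbB
  · exact orbC
  · exact orbD
  · exact orbA

theorem ws_pt (i : Fin 5) : rho (word (ws i)) 0 = rp i := by
  rw [rho_word, ← ptWord_eq (wok (ws i) false)]
  fin_cases i
  · exact Nat.eq_of_beq_eq_true pt0
  · exact Nat.eq_of_beq_eq_true pt1
  · exact Nat.eq_of_beq_eq_true pt2
  · exact Nat.eq_of_beq_eq_true pt3
  · exact Nat.eq_of_beq_eq_true pt4

/-- the representatives -/
noncomputable def r (i : Fin 5) : X := ⟨rp i, word (ws i), ws_pt i⟩

theorem testBit_sub {M p : ℕ} {i : Fin 5} (h : (Nat.land (Uc i) M).testBit p = true) : UG.testBit p = true := by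
  have h1 : ((Uc i) &&& M).testBit p = true := h
  rw [Nat.testBit_and, Bool.and_eq_true] at h1
  exact (UG_iff p).2 ⟨i, h1.1⟩

theorem card_filter (P : X → Prop) [DecidablePred P] (M n : ℕ) (h : ∀ x : X, P x ↔ M.testBit x.1 = true)
    (hsub : ∀ p, M.testBit p = true → UG.testBit p = true) (hlt : Nat.beq (Nat.shiftRight M (Nat.pow 2 17)) 0 = true)
    (hpc : Nat.beq (pc 17 M) n = true) : (Finset.univ.filter P).card = n := by
  rw [← Set.ncard_coe_finset, ← ncard_testBit hlt hpc]
  have h1 : {p : ℕ | M.testBit p = true} = Subtype.val '' ((Finset.univ.filter P : Finset X) : Set X) := by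
    ext p
    constructor
    · intro hp
      exact ⟨⟨p, exists_of_UG (hsub p hp)⟩, by
        rw [Finset.mem_coe, Finset.mem_filter]
        exact ⟨Finset.mem_univ _, (h _).2 hp⟩, rfl⟩
    · rintro ⟨x, hx, rfl⟩
      rw [Finset.mem_coe, Finset.mem_filter] at hx
      exact (h x).1 hx.2
  rw [h1, Set.ncard_image_of_injective _ Subtype.val_injective]

theorem lt_land {U M : ℕ} (h : Nat.beq (Nat.shiftRight U (Nat.pow 2 17)) 0 = true) :
    Nat.beq (Nat.shiftRight (Nat.land U M) (Nat.pow 2 17)) 0 = true := by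
  have h1 : U >>> 2 ^ 17 = 0 := Nat.eq_of_beq_eq_true h
  have h2 : (U &&& M) >>> 2 ^ 17 = 0 := by
    rw [Nat.shiftRight_and_distrib, h1, Nat.zero_and]
  show Nat.beq ((U &&& M) >>> 2 ^ 17) 0 = true
  rw [h2]
  rfl

theorem auxB {i j : Fin 5} {w : List Gen} {U n : ℕ}
    (h : Nat.beq (pc 17 (Nat.land U5586 (appWord (nw w false) U))) n = true)
    (h1 : ws i = w) (h2 : Uc j = U) (h3 : B i j = n) :
    Nat.beq (pc 17 (Nat.land U5586 (appWord (nw (ws i) false) (Uc j)))) (B i j) = true := by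
  subst h1 h2 h3
  exact h

theorem chkB (i j : Fin 5) : Nat.beq (pc 17 (Nat.land U5586 (appWord (nw (ws i) false) (Uc j)))) (B i j) = true := by
  fin_cases i <;> fin_cases j
  · exact auxB cB00 rfl rfl rfl
  · exact auxB cB01 rfl rfl rfl
  · exact auxB cB02 rfl rfl rfl
  · exact auxB cB03 rfl rfl rfl
  · exact auxB cB04 rfl rfl rfl
  · exact auxB cB10 rfl rfl rfl
  · exact auxB cB11 rfl rfl rfl
  · exact auxB cB12 rfl rfl rfl
  · exact auxB cB13 rfl rfl rfl
  · exact auxB cB14 rfl rfl rfl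
  · exact auxB cB20 rfl rfl rfl
  · exact auxB cB21 rfl rfl rfl
  · exact auxB cB22 rfl rfl rfl
  · exact auxB cB23 rfl rfl rfl
  · exact auxB cB24 rfl rfl rfl
  · exact auxB cB30 rfl rfl rfl
  · exact auxB cB31 rfl rfl rfl
  · exact auxB cB32 rfl rfl rfl
  · exact auxB cB33 rfl rfl rfl
  · exact auxB cB34 rfl rfl rfl
  · exact auxB cB40 rfl rfl rfl
  · exact auxB cB41 rfl rfl rfl
  · exact auxB cB42 rfl rfl rfl
  · exact auxB cB43 rfl rfl rfl
  · exact auxB cB44 rfl rfl rfl

theorem auxK {i : Fin 5} {U n : ℕ} (hlt : Nat.beq (Nat.shiftRight U (Nat.pow 2 17)) 0 = true)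
    (hpc : Nat.beq (pc 17 U) n = true) (h2 : Uc i = U) (h3 : k i = n) :
    Nat.beq (Nat.shiftRight (Uc i) (Nat.pow 2 17)) 0 = true ∧ Nat.beq (pc 17 (Uc i)) (k i) = true := by
  subst h2 h3
  exact ⟨hlt, hpc⟩

open Classical in
theorem hB (i j : Fin 5) : (Finset.univ.filter fun z : X => cls z = 1 ∧ cls (word (ws i) • z) = j).card = B i j := by
  refine card_filter _ (Nat.land U5586 (appWord (nw (ws i) false) (Uc j))) _ ?_ ?_ (lt_land lt5586) (chkB i j)
  · intro x
    rw [cls_iff, cls_iff, smul_val, rho_word, ← testBit_appWord (wok (ws i) false)]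
    show _ ↔ (U5586 &&& _).testBit _ = true
    rw [Nat.testBit_and, Bool.and_eq_true]
    rfl
  · intro p hp
    exact testBit_sub (i := 1) hp

open Classical in
theorem hk (i : Fin 5) : (Finset.univ.filter fun z : X => cls z = i).card = k i := by
  have h1 : Nat.beq (Nat.shiftRight (Uc i) (Nat.pow 2 17)) 0 = true ∧ Nat.beq (pc 17 (Uc i)) (k i) = true := by
    fin_cases i
    · exact ⟨by decide +kernel, by decide +kernel⟩
    · exact auxK ltB pcB rfl rfl
    · exact auxK ltC pcC rfl rfl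
    · exact auxK ltD pcD rfl rfl
    · exact auxK ltA pcA rfl rfl
  exact card_filter _ (Uc i) _ (fun x => cls_iff x i) (fun p hp => (UG_iff p).2 ⟨i, hp⟩) h1.1 h1.2

theorem hBa : ∀ i, ∑ j, (B i j : ℚ) * a j = 42 * a i := by decide +kernel

theorem hsum : (32395 : ℚ) * ∑ i, (k i : ℚ) * a i ^ 2 = 122760 := by decide +kernel

theorem huniq (a' : Fin 5 → ℚ) (h : ∀ i, ∑ j, (B i j : ℚ) * a' j = 42 * a' i) (i : Fin 5) : a' i = a' 0 * a i := by
  have h0 := h 0
  have h1 := h 1
  have h2 := h 2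
  have h3 := h 3
  have h4 := h 4
  simp only [B, Fin.sum_univ_five, Matrix.cons_val] at h0 h1 h2 h3 h4
  norm_num at h0 h1 h2 h3 h4
  fin_cases i
  · show a' 0 = a' 0 * 1
    rw [mul_one]
  · show a' 1 = a' 0 * (1 / 133)
    linarith
  · show a' 2 = a' 0 * (1 / 133)
    linarith
  · show a' 3 = a' 0 * (-5 / 931)
    linarith
  · show a' 4 = a' 0 * (3 / 931)
    linarith

theorem cls_x0 : cls x0 = 0 := (cls_iff x0 0).2 rfl

theorem ratOdd_ON : RatOdd Cfsg.Spor.ON := by
  classical
  have := finite_ON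
  refine ratOdd_of_orbital x0 cls r ?_ ?_ 1 (fun i => word (ws i)) ?_ B ?_ a 42 hBa ?_ ?_ ?_ k ?_ 32395
    (by decide) (by decide) ?_
  · intro g hg x
    have h1 : g ∈ H := (stab g).1 (congrArg Subtype.val hg)
    rw [cls_iff]
    have h2 : x.1 ∈ {p | (Uc (cls x)).testBit p = true} := cls_spec x
    rw [← orb] at h2
    obtain ⟨y, hy, e⟩ := h2
    have h3 : (g • x).1 ∈ {p : ℕ | ∃ x' ∈ H, rho x' (rp (cls x)) = p} :=
      ⟨g * y, H.mul_mem h1 hy, by rw [map_mul, Equiv.Perm.mul_apply, e]; rfl⟩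
    rw [orb] at h3
    exact h3
  · intro x
    have h2 : x.1 ∈ {p | (Uc (cls x)).testBit p = true} := cls_spec x
    rw [← orb] at h2
    obtain ⟨y, hy, e⟩ := h2
    exact ⟨y, Subtype.ext ((stab y).2 hy), Subtype.ext e⟩
  · intro i
    exact Subtype.ext (ws_pt i)
  · intro i j
    rw [← hB i j]
  · intro a' h i
    rw [cls_x0]
    exact huniq a' h i
  · rw [cls_x0]
    rfl
  · intro x y
    obtain ⟨g, hg⟩ := x.2
    obtain ⟨h, hh⟩ := y.2
    refine ⟨h * g⁻¹, Subtype.ext ?_⟩
    rw [smul_val, map_mul, map_inv, ← hg, ← hh, Equiv.Perm.mul_apply]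
    exact congrArg (rho h) ((rho g).symm_apply_apply 0)
  · intro i
    rw [← hk i]
  · rw [card_X]
    exact_mod_cast hsum

theorem row {K : Type*} [Group K] [Finite K] (h : Spor.IsoON K) : RatOdd K := by
  obtain ⟨e⟩ := h
  exact RatOdd.of_equiv e ratOdd_ON

end Cfsg.Agent.H707.Odd.ON
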