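import Cfsg.Agent.H707.Odd.Orbital
import Cfsg.Agent.ONType.RepOrb
import Cfsg.Agent.SporRec.ONFinal
import Cfsg.Agent.SporRec.ONIndexUpper

/-!
# The O'Nan group: kernel checks

The action on 122760 points has rank five; an eigenvector of the orbital of valency 5586 gives a rational irreducible
constituent of degree 32395.
-/

set_option autoImplicit false
set_option maxRecDepth 100000
set_option Elab.async false

namespace Cfsg.Agent.H707.Odd.ON

open Cfsg Cfsg.Agent.H636.Gow Cfsg.Agent.H707.Odd
open Cfsg.Agent.Lib.PermNet Cfsg.Agent.Lib.PermNetOrbit Cfsg.Agent.Fischer.Fi24RepLib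
  Cfsg.Agent.ONType.RepDef Cfsg.Agent.ONType.Rep Cfsg.Agent.ONType.RepOrbData
open Cfsg.Agent.ONType.RepOrb (H H_fix H_eq index_and_suborbits UG orbA orbB orbC orbD pcA pcB pcC pcD ltA ltB ltC ltD
  orbG ncardG)
open Cfsg.Spor.ON (Gen)

/-- the words leading to the representatives -/
def ws : Fin 5 → List Gen := ![[], [.d, .c, .g, .b, .c, .g], [.g, .d, .c, .a, .b, .c, .g], [.d, .c, .a, .g, .b, .g], [.b, .g]]

/-- the representatives -/
def rp : Fin 5 → ℕ := ![0, 72, 88, 168, 8]

/-- the masks of the five suborbits -/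
noncomputable def Uc : Fin 5 → ℕ := ![1, U5586, U6384, U52136, U58653]

/-- the matrix of the orbital of valency 5586 -/
def B : Fin 5 → Fin 5 → ℕ := ![![0, 5586, 0, 0, 0], ![1, 364, 216, 2464, 2541], ![0, 189, 301, 2303, 2793], ![0, 264, 282, 2394, 2646], ![0, 242, 304, 2352, 2688]]

/-- the sizes -/
def k : Fin 5 → ℕ := ![1, 5586, 6384, 52136, 58653]

/-- the eigenvector -/
def a : Fin 5 → ℚ := ![1, 1 / 133, 1 / 133, -5 / 931, 3 / 931]

theorem cB00 : Nat.beq (pc 17 (Nat.land U5586 (appWord (nw [] false) 1))) 0 = true := by decide +kernel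
theorem cB01 : Nat.beq (pc 17 (Nat.land U5586 (appWord (nw [] false) U5586))) 5586 = true := by decide +kernel
theorem cB02 : Nat.beq (pc 17 (Nat.land U5586 (appWord (nw [] false) U6384))) 0 = true := by decide +kernel
theorem cB03 : Nat.beq (pc 17 (Nat.land U5586 (appWord (nw [] false) U52136))) 0 = true := by decide +kernel
theorem cB04 : Nat.beq (pc 17 (Nat.land U5586 (appWord (nw [] false) U58653))) 0 = true := by decide +kernel
theorem cB10 : Nat.beq (pc 17 (Nat.land U5586 (appWord (nw [Gen.d, .c, .g, .b, .c, .g] false) 1))) 1 = true := by decide +kernel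
theorem cB11 : Nat.beq (pc 17 (Nat.land U5586 (appWord (nw [Gen.d, .c, .g, .b, .c, .g] false) U5586))) 364 = true := by decide +kernel
theorem cB12 : Nat.beq (pc 17 (Nat.land U5586 (appWord (nw [Gen.d, .c, .g, .b, .c, .g] false) U6384))) 216 = true := by decide +kernel
theorem cB13 : Nat.beq (pc 17 (Nat.land U5586 (appWord (nw [Gen.d, .c, .g, .b, .c, .g] false) U52136))) 2464 = true := by decide +kernel
theorem cB14 : Nat.beq (pc 17 (Nat.land U5586 (appWord (nw [Gen.d, .c, .g, .b, .c, .g] false) U58653))) 2541 = true := by decide +kernel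
theorem cB20 : Nat.beq (pc 17 (Nat.land U5586 (appWord (nw [Gen.g, .d, .c, .a, .b, .c, .g] false) 1))) 0 = true := by decide +kernel
theorem cB21 : Nat.beq (pc 17 (Nat.land U5586 (appWord (nw [Gen.g, .d, .c, .a, .b, .c, .g] false) U5586))) 189 = true := by decide +kernel
theorem cB22 : Nat.beq (pc 17 (Nat.land U5586 (appWord (nw [Gen.g, .d, .c, .a, .b, .c, .g] false) U6384))) 301 = true := by decide +kernel
theorem cB23 : Nat.beq (pc 17 (Nat.land U5586 (appWord (nw [Gen.g, .d, .c, .a, .b, .c, .g] false) U52136))) 2303 = true := by decide +kernel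
theorem cB24 : Nat.beq (pc 17 (Nat.land U5586 (appWord (nw [Gen.g, .d, .c, .a, .b, .c, .g] false) U58653))) 2793 = true := by decide +kernel
theorem cB30 : Nat.beq (pc 17 (Nat.land U5586 (appWord (nw [Gen.d, .c, .a, .g, .b, .g] false) 1))) 0 = true := by decide +kernel
theorem cB31 : Nat.beq (pc 17 (Nat.land U5586 (appWord (nw [Gen.d, .c, .a, .g, .b, .g] false) U5586))) 264 = true := by decide +kernel
theorem cB32 : Nat.beq (pc 17 (Nat.land U5586 (appWord (nw [Gen.d, .c, .a, .g, .b, .g] false) U6384))) 282 = true := by decide +kernel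
theorem cB33 : Nat.beq (pc 17 (Nat.land U5586 (appWord (nw [Gen.d, .c, .a, .g, .b, .g] false) U52136))) 2394 = true := by decide +kernel
theorem cB34 : Nat.beq (pc 17 (Nat.land U5586 (appWord (nw [Gen.d, .c, .a, .g, .b, .g] false) U58653))) 2646 = true := by decide +kernel
theorem cB40 : Nat.beq (pc 17 (Nat.land U5586 (appWord (nw [Gen.b, .g] false) 1))) 0 = true := by decide +kernel
theorem cB41 : Nat.beq (pc 17 (Nat.land U5586 (appWord (nw [Gen.b, .g] false) U5586))) 242 = true := by decide +kernel
theorem cB42 : Nat.beq (pc 17 (Nat.land U5586 (appWord (nw [Gen.b, .g] false) U6384))) 304 = true := by decide +kernel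
theorem cB43 : Nat.beq (pc 17 (Nat.land U5586 (appWord (nw [Gen.b, .g] false) U52136))) 2352 = true := by decide +kernel
theorem cB44 : Nat.beq (pc 17 (Nat.land U5586 (appWord (nw [Gen.b, .g] false) U58653))) 2688 = true := by decide +kernel

theorem dj01 : Nat.beq (Nat.land 1 U5586) 0 = true := by decide +kernel
theorem dj02 : Nat.beq (Nat.land 1 U6384) 0 = true := by decide +kernel
theorem dj03 : Nat.beq (Nat.land 1 U52136) 0 = true := by decide +kernel
theorem dj04 : Nat.beq (Nat.land 1 U58653) 0 = true := by decide +kernel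
theorem dj12 : Nat.beq (Nat.land U5586 U6384) 0 = true := by decide +kernel
theorem dj13 : Nat.beq (Nat.land U5586 U52136) 0 = true := by decide +kernel
theorem dj14 : Nat.beq (Nat.land U5586 U58653) 0 = true := by decide +kernel
theorem dj23 : Nat.beq (Nat.land U6384 U52136) 0 = true := by decide +kernel
theorem dj24 : Nat.beq (Nat.land U6384 U58653) 0 = true := by decide +kernel
theorem dj34 : Nat.beq (Nat.land U52136 U58653) 0 = true := by decide +kernel

theorem pt0 : Nat.beq (ptWord (nw [] false) 0) 0 = true := by decide +kernel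
theorem pt1 : Nat.beq (ptWord (nw [Gen.d, .c, .g, .b, .c, .g] false) 0) 72 = true := by decide +kernel
theorem pt2 : Nat.beq (ptWord (nw [Gen.g, .d, .c, .a, .b, .c, .g] false) 0) 88 = true := by decide +kernel
theorem pt3 : Nat.beq (ptWord (nw [Gen.d, .c, .a, .g, .b, .g] false) 0) 168 = true := by decide +kernel
theorem pt4 : Nat.beq (ptWord (nw [Gen.b, .g] false) 0) 8 = true := by decide +kernel

theorem lt5586 : Nat.beq (Nat.shiftRight U5586 (Nat.pow 2 17)) 0 = true := ltB
theorem pc1 : Nat.beq (pc 17 1) 1 = true := by decide +kernel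
theorem lt1 : Nat.beq (Nat.shiftRight 1 (Nat.pow 2 17)) 0 = true := by decide +kernel

end Cfsg.Agent.H707.Odd.ON
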